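import Mathlib
import Groth.Agent.Lib.Helper6.GenFin.Dense
import Groth.Agent.Lib.Helper6.LocIso.Dense

/-!
# Finiteness of the set of irreducible components ascends along fppf morphisms
-/

set_option autoImplicit false
universe u

namespace Groth.Agent.Lib.Helper6.FppfComp

open AlgebraicGeometry CategoryTheory TopologicalSpace Groth.Agent.Lib.Helper6.LocIso
  Groth.Agent.Lib.Helper6.GenFin

section Top

variable {T : Type*} [TopologicalSpace T]

theorem closure_mem_irreducibleComponents_of_forall_specializes [QuasiSober T] {x : T}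
    (h : ∀ x', x' ⤳ x → x' = x) : closure {x} ∈ irreducibleComponents T := by
  obtain ⟨x', hx'1, hx'2⟩ := exists_generic_specializes x
  rw [← h x' hx'2]; exact hx'1

theorem finite_setOf_forall_specializes [QuasiSober T] [T0Space T]
    (hT : (irreducibleComponents T).Finite) : {x : T | ∀ x', x' ⤳ x → x' = x}.Finite :=
  (finite_generic_points hT).subset fun _ hx =>
    closure_mem_irreducibleComponents_of_forall_specializes hx

theorem finite_irreducibleComponents_of_finite_gen [QuasiSober T] [T0Space T]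
    (h : {x : T | ∀ x', x' ⤳ x → x' = x}.Finite) : (irreducibleComponents T).Finite := by
  refine (h.image (fun x => closure {x})).subset ?_
  intro Z hZ
  obtain ⟨z, hz⟩ := exists_generic_of_mem_irreducibleComponents hZ
  exact ⟨z, fun x' hx' => eq_of_specializes_of_closure_mem (hz ▸ hZ) hx', hz⟩

/-- Generic points of an open subspace are the generic points of the space lying in it. -/
theorem forall_specializes_subtype_iff {s : Set T} (hs : IsOpen s) (x : s) :
    (∀ x' : s, x' ⤳ x → x' = x) ↔ ∀ x' : T, x' ⤳ x.1 → x' = x.1 := by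
  constructor
  · intro h x' hx'
    have hx's : x' ∈ s := hx'.mem_open hs x.2
    exact congrArg Subtype.val (h ⟨x', hx's⟩ ((subtype_specializes_iff _ _).mpr hx'))
  · intro h x' hx'
    exact Subtype.ext (h x'.1 ((subtype_specializes_iff _ _).mp hx'))

end Top

variable {X Y : Scheme.{u}}

/-- Generic points in an open of a scheme: finitely many if the open has finitely many
irreducible components. -/
theorem finite_gen_of_finite_irreducibleComponents (U : X.Opens)
    (h : (irreducibleComponents ↥U).Finite) :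
    {x : X | x ∈ U ∧ ∀ x', x' ⤳ x → x' = x}.Finite := by
  have : QuasiSober ↥U := U.isOpenEmbedding'.quasiSober
  have h1 := finite_setOf_forall_specializes h
  refine (h1.image (fun x : ↥U => (x.1 : X))).subset ?_
  rintro x ⟨hxU, hx⟩
  exact ⟨⟨x, hxU⟩, (forall_specializes_subtype_iff U.2 ⟨x, hxU⟩).mpr hx, rfl⟩

/-- A flat morphism maps generic points to generic points. -/
theorem gen_map_of_flat (f : Y ⟶ X) [Flat f] {ξ : Y} (hξ : ∀ ξ', ξ' ⤳ ξ → ξ' = ξ) :
    ∀ y', y' ⤳ f ξ → y' = f ξ := by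
  intro y' hy'
  obtain ⟨ξ', hξ'1, hξ'2⟩ := Flat.generalizingMap f hy'
  rw [← hξ'2, hξ ξ' hξ'1]

set_option backward.isDefEq.respectTransparency.types false in
/-- Finitely many generic points of `Y` in an affine open `D` lie over a given point, for a
morphism locally of finite type. -/
theorem finite_gen_fiber (f : Y ⟶ X) [LocallyOfFiniteType f] {D : Y.Opens} (hD : IsAffineOpen D)
    {U : X.Opens} (hU : IsAffineOpen U) (hDU : D ≤ f ⁻¹ᵁ U) (η : X) :
    {ξ : Y | ξ ∈ D ∧ f ξ = η ∧ ∀ ξ', ξ' ⤳ ξ → ξ' = ξ}.Finite := by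
  by_cases hη : η ∈ U
  swap
  · convert Set.finite_empty
    ext ξ
    simp only [Set.mem_ofPred_eq, Set.mem_empty_iff_false, iff_false, not_and]
    intro hξD hfξ
    exact absurd (hfξ ▸ hDU hξD) hη
  have hDaff : IsAffine D.toScheme := hD
  have hUaff : IsAffine U.toScheme := hU
  let h' : D.toScheme ⟶ U.toScheme := f.resLE U D hDU
  have hqc : QuasiCompact h' := inferInstance
  have hlft : LocallyOfFiniteType h' := inferInstance
  let η' : U.toScheme := ⟨η, hη⟩
  have : LocallyOfFiniteType (h'.fiberToSpecResidueField η') :=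
    MorphismProperty.pullback_snd _ _ inferInstance
  have hln : IsLocallyNoetherian (h'.fiber η') :=
    LocallyOfFiniteType.isLocallyNoetherian (h'.fiberToSpecResidueField η')
  have hn : IsNoetherian (h'.fiber η') := { }
  have hns : NoetherianSpace (h'.fiber η') := inferInstance
  have hns' : NoetherianSpace (h' ⁻¹' {η'}) :=
    (noetherianSpace_iff_of_homeomorph (h'.fiberHomeo η')).mp hns
  have hqs : QuasiSober (h' ⁻¹' {η'}) :=
    (h'.fiberHomeo η').symm.isClosedEmbedding.quasiSober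
  have hfin := finite_setOf_forall_specializes
    (NoetherianSpace.finite_irreducibleComponents (α := h' ⁻¹' {η'}))
  refine (hfin.image (fun x : h' ⁻¹' {η'} => (x.1.1 : Y))).subset ?_
  rintro ξ ⟨hξD, hfξ, hξ⟩
  have hmem : (⟨ξ, hξD⟩ : ↥D) ∈ h' ⁻¹' {η'} := by
    show h' ⟨ξ, hξD⟩ = η'
    apply Subtype.ext
    exact (resLE_apply_coe f U D hDU ⟨ξ, hξD⟩).trans hfξ
  refine ⟨⟨⟨ξ, hξD⟩, hmem⟩, ?_, rfl⟩
  intro x' hx'
  have h1 : x'.1 ⤳ (⟨ξ, hξD⟩ : ↥D) := (subtype_specializes_iff _ _).mp hx'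
  have h2 : (x'.1.1 : Y) ⤳ ξ := (subtype_specializes_iff _ _).mp h1
  exact Subtype.ext (Subtype.ext (hξ _ h2))

/-- **Finiteness of the set of irreducible components ascends along flat morphisms locally of
finite presentation.** -/
theorem finite_irreducibleComponents_of_fppf (f : Y ⟶ X) [Flat f]
    [LocallyOfFinitePresentation f]
    (hX : ∀ U : X.Opens, IsCompact (U : Set X) → (irreducibleComponents ↥U).Finite)
    (V : Y.Opens) (hV : IsCompact (V : Set Y)) : (irreducibleComponents ↥V).Finite := by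
  have : QuasiSober ↥V := V.isOpenEmbedding'.quasiSober
  apply finite_irreducibleComponents_of_finite_gen
  have hcov : ∀ v : ↥V, ∃ (D : Y.Opens) (U : X.Opens), IsAffineOpen D ∧ IsAffineOpen U ∧
      D ≤ f ⁻¹ᵁ U ∧ v.1 ∈ D := by
    intro v
    obtain ⟨U, hU, hvU, -⟩ := exists_isAffineOpen_mem_and_subset (x := f v.1) (U := ⊤) trivial
    obtain ⟨D, hD, hvD, hDle⟩ :=
      exists_isAffineOpen_mem_and_subset (x := v.1) (U := f ⁻¹ᵁ U) hvU
    exact ⟨D, U, hD, hU, hDle, hvD⟩
  choose D U hD hU hDU hvD using hcov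
  obtain ⟨t, ht⟩ := hV.elim_finite_subcover (fun v : ↥V => (D v : Set Y)) (fun v => (D v).2)
    (fun y hy => Set.mem_iUnion.mpr ⟨⟨y, hy⟩, hvD ⟨y, hy⟩⟩)
  have hfin : {ξ : Y | ξ ∈ V ∧ ∀ ξ', ξ' ⤳ ξ → ξ' = ξ}.Finite := by
    have h1 : ∀ v ∈ t, {ξ : Y | ξ ∈ D v ∧ ∀ ξ', ξ' ⤳ ξ → ξ' = ξ}.Finite := by
      intro v _
      have hUfin := finite_gen_of_finite_irreducibleComponents (U v)
        (hX (U v) (hU v).isCompact)
      have hsub : {ξ : Y | ξ ∈ D v ∧ ∀ ξ', ξ' ⤳ ξ → ξ' = ξ} ⊆
          ⋃ η ∈ {x : X | x ∈ U v ∧ ∀ x', x' ⤳ x → x' = x},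
            {ξ : Y | ξ ∈ D v ∧ f ξ = η ∧ ∀ ξ', ξ' ⤳ ξ → ξ' = ξ} := by
        rintro ξ ⟨hξD, hξ⟩
        exact Set.mem_biUnion (show f ξ ∈ {x : X | x ∈ U v ∧ ∀ x', x' ⤳ x → x' = x} from
          ⟨hDU v hξD, gen_map_of_flat f hξ⟩) ⟨hξD, rfl, hξ⟩
      exact (hUfin.biUnion fun η _ => finite_gen_fiber f (hD v) (hU v) (hDU v) η).subset hsub
    refine (t.finite_toSet.biUnion h1).subset ?_
    rintro ξ ⟨hξV, hξ⟩
    obtain ⟨v, hv, hξv⟩ := Set.mem_iUnion₂.mp (ht hξV)
    exact Set.mem_biUnion hv ⟨hξv, hξ⟩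
  refine (hfin.preimage (Subtype.val_injective.injOn)).subset ?_
  intro z hz
  exact ⟨z.2, (forall_specializes_subtype_iff V.2 z).mp hz⟩

end Groth.Agent.Lib.Helper6.FppfComp
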